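import Mathlib
import Groth.Agent.H35.ExtPowFactor
import Groth.Agent.H35.BoundedInductionDeg

/-!
# Artin–Rees vanishing for maps to bounded objects with `I`-power torsion cohomology
(helper35, for S13578)

`VProp I Z`: every map `N[0] ⟶ Z`, `N` a finite module, vanishes on `(I^n N)[0]` for some `n`.
Main result `vprop_of_bounded`: this holds when `Z` is bounded and each cohomology module of `Z`
is killed by a power of `I`.
-/

set_option autoImplicit false
universe u

open CategoryTheory CategoryTheory.Limits CategoryTheory.Pretriangulated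

namespace Groth.Agent.H35.LTI

open DerivedCategory Groth.Agent.H35.ExtAR

attribute [local instance] HasDerivedCategory.standard

variable {A : Type u} [CommRing A]

/-- a power of `I` kills the object `H` of an `A`-linear category -/
def PowKills (I : Ideal A) {C : Type*} [Category C] [Preadditive C] [Linear A C] (H : C) : Prop :=
  ∃ m : ℕ, ∀ x ∈ I ^ m, x • 𝟙 H = 0

lemma PowKills.of_iso (I : Ideal A) {C : Type*} [Category C] [Preadditive C] [Linear A C]
    {H H' : C} (e : H ≅ H') (h : PowKills I H) : PowKills I H' := by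
  obtain ⟨m, hm⟩ := h
  refine ⟨m, fun x hx => ?_⟩
  have h1 : x • 𝟙 H' = e.inv ≫ (x • 𝟙 H) ≫ e.hom := by
    rw [Linear.smul_comp, Linear.comp_smul, Category.id_comp, Iso.inv_hom_id]
  rw [h1, hm x hx, zero_comp, comp_zero]

lemma powKills_of_isZero (I : Ideal A) {C : Type*} [Category C] [Preadditive C] [Linear A C]
    {H : C} (h : IsZero H) : PowKills I H :=
  ⟨0, fun _ _ => h.eq_of_src _ _⟩

/-- the Artin–Rees vanishing property -/
def VProp (I : Ideal A) : ObjectProperty (Dual.D A) := fun Z =>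
  ∀ (N : Type u) [AddCommGroup N] [Module A N] [Module.Finite A N]
    (ψ : (sg A).obj (ModuleCat.of A N) ⟶ Z),
    ∃ n : ℕ, (sg A).map (ModuleCat.ofHom (powTop I n N).subtype) ≫ ψ = 0

instance (I : Ideal A) : (VProp I).IsClosedUnderIsomorphisms where
  of_iso {Z Z'} e h := by
    intro N _ _ _ ψ
    obtain ⟨n, hn⟩ := h N (ψ ≫ e.inv)
    refine ⟨n, ?_⟩
    have h1 : ψ = (ψ ≫ e.inv) ≫ e.hom := by rw [Category.assoc, Iso.inv_hom_id, Category.comp_id]
    rw [h1, ← Category.assoc, hn, zero_comp]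

lemma vprop_of_isZero (I : Ideal A) (Z : Dual.D A) (hZ : IsZero Z) : VProp I Z :=
  fun _ _ _ _ _ => ⟨0, hZ.eq_of_tgt _ _⟩

section Pow

variable (I : Ideal A) (N : Type u) [AddCommGroup N] [Module A N]

/-- `I^{n₁+n₂} N ⟶ I^{n₂}(I^{n₁} N)` -/
lemma exists_pow_add_factor (n₁ n₂ : ℕ) :
    ∃ t : ↥(powTop I (n₁ + n₂) N) →ₗ[A] ↥(powTop I n₂ ↥(powTop I n₁ N)),
      (powTop I n₁ N).subtype ∘ₗ (powTop I n₂ ↥(powTop I n₁ N)).subtype ∘ₗ t =
        (powTop I (n₁ + n₂) N).subtype := by
  have hle : powTop I (n₁ + n₂) N ≤ powTop I n₁ N := by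
    apply Submodule.smul_mono_left
    exact Ideal.pow_le_pow_right (Nat.le_add_right _ _)
  let u : ↥(powTop I (n₁ + n₂) N) →ₗ[A] ↥(powTop I n₁ N) := Submodule.inclusion hle
  have hu : ∀ x, u x ∈ powTop I n₂ ↥(powTop I n₁ N) := by
    intro x
    have h1 : ((u x : ↥(powTop I n₁ N)) : N) ∈ I ^ n₂ • (powTop I n₁ N) := by
      have h2 : (x : N) ∈ I ^ (n₁ + n₂) • (⊤ : Submodule A N) := x.2
      rw [pow_add, mul_comm, mul_smul] at h2
      exact h2
    have h3 : I ^ n₂ • (powTop I n₁ N) =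
        Submodule.map (powTop I n₁ N).subtype (I ^ n₂ • ⊤) := by
      rw [Submodule.map_smul'', Submodule.map_top, Submodule.range_subtype]
    rw [h3] at h1
    obtain ⟨y, hy, hyx⟩ := h1
    have : y = u x := Subtype.ext hyx
    rw [← this]
    exact hy
  refine ⟨LinearMap.codRestrict _ u hu, ?_⟩
  ext x
  rfl

end Pow

section Triangle

variable [IsNoetherianRing A] (I : Ideal A)

lemma vprop_of_triangle (T : Triangle (Dual.D A)) (hT : T ∈ distTriang (Dual.D A))
    (h₁ : VProp I T.obj₁) (h₃ : VProp I T.obj₃) : VProp I T.obj₂ := by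
  intro N _ _ _ ψ
  obtain ⟨n₁, hn₁⟩ := h₃ N (ψ ≫ T.mor₂)
  rw [← Category.assoc] at hn₁
  obtain ⟨φ, hφ⟩ := Triangle.coyoneda_exact₂ T hT _ hn₁
  have hN : IsNoetherian A N := isNoetherian_of_isNoetherianRing_of_finite A N
  have hfin : Module.Finite A ↥(powTop I n₁ N) := inferInstance
  obtain ⟨n₂, hn₂⟩ := h₁ ↥(powTop I n₁ N) φ
  obtain ⟨t, ht⟩ := exists_pow_add_factor I N n₁ n₂
  refine ⟨n₁ + n₂, ?_⟩
  have e : ModuleCat.ofHom (powTop I (n₁ + n₂) N).subtype =
      ModuleCat.ofHom t ≫ ModuleCat.ofHom (powTop I n₂ ↥(powTop I n₁ N)).subtype ≫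
        ModuleCat.ofHom (powTop I n₁ N).subtype := by
    rw [← ModuleCat.ofHom_comp, ← ModuleCat.ofHom_comp, LinearMap.comp_assoc, ht]
  rw [e, Functor.map_comp, Functor.map_comp, Category.assoc, Category.assoc, hφ,
    ← Category.assoc ((sg A).map (ModuleCat.ofHom (powTop I n₂ ↥(powTop I n₁ N)).subtype)), hn₂,
    zero_comp, comp_zero]

end Triangle

section Single

variable [IsNoetherianRing A] (I : Ideal A)

lemma subsingleton_powTop_of_powKills (M : ModuleCat.{u} A) (m : ℕ)
    (hm : ∀ x ∈ I ^ m, x • 𝟙 M = 0) (k : ℕ) (hk : m ≤ k) :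
    Subsingleton ↥(powTop I k ↑M) := by
  have h0 : powTop I k ↑M = ⊥ := by
    rw [eq_bot_iff]
    apply Submodule.smul_le.2
    intro x hx y _
    have h1 : x • 𝟙 M = 0 := hm x (Ideal.pow_le_pow_right hk hx)
    have h2 : (x • 𝟙 M).hom y = x • y := rfl
    rw [h1] at h2
    rw [Submodule.mem_bot, ← h2]
    rfl
  rw [h0]
  infer_instance

lemma vprop_single (M : ModuleCat.{u} A) (n : ℤ) (hM : PowKills I M) :
    VProp I ((singleFunctor (ModuleCat.{u} A) n).obj M) := by
  intro N _ _ hfin ψ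
  by_cases hn : 0 < n
  · refine ⟨0, ?_⟩
    have h1 : ((sg A).obj (ModuleCat.of A N)).IsLE 0 := inferInstance
    have h2 : ((singleFunctor (ModuleCat.{u} A) n).obj M).IsGE n := inferInstance
    rw [TStructure.t.zero_of_isLE_of_isGE ψ 0 n hn h1 h2, comp_zero]
  · obtain ⟨m, hm⟩ := hM
    obtain ⟨p, hp⟩ : ∃ p : ℕ, (p : ℤ) = -n := ⟨(-n).toNat, by omega⟩
    let θ : (shiftFunctor (Dual.D A) (p : ℤ)).obj ((sg A).obj M) ≅
        (singleFunctor (ModuleCat.{u} A) n).obj M :=
      ((singleFunctors (ModuleCat.{u} A)).shiftIso (p : ℤ) n 0 (by omega)).app M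
    obtain ⟨c, hc⟩ := factorsProp_nat I ↑M p N hfin
    obtain ⟨e', he'⟩ := hc (c + m) (Nat.le_add_right _ _) (ψ ≫ θ.inv)
    refine ⟨c + m, ?_⟩
    have hsub := subsingleton_powTop_of_powKills I M m hm (c + m - c) (by omega)
    have hz : IsZero (ModuleCat.of A ↥(powTop I (c + m - c) ↑M)) :=
      ModuleCat.isZero_of_subsingleton _
    have h0 : (sg A).map (ModuleCat.ofHom (powTop I (c + m - c) ↑M).subtype) = 0 :=
      ((sg A).map_isZero hz).eq_of_src _ _
    rw [h0, Functor.map_zero, comp_zero] at he'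
    have h1 : ψ = (ψ ≫ θ.inv) ≫ θ.hom := by
      rw [Category.assoc, Iso.inv_hom_id, Category.comp_id]
    rw [h1, ← Category.assoc, ← he', zero_comp]

end Single

/-- `PowKills` as an object property of modules -/
def SPow (I : Ideal A) : ObjectProperty (ModuleCat.{u} A) := fun M => PowKills I M

instance (I : Ideal A) : (SPow I).IsClosedUnderIsomorphisms :=
  ⟨fun e h => PowKills.of_iso I e h⟩

/-- **Artin–Rees vanishing**: bounded objects with `I`-power torsion cohomology. -/
theorem vprop_of_bounded [IsNoetherianRing A] (I : Ideal A) (Z : Dual.D A) (a b : ℤ)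
    (hGE : Z.IsGE a) (hLE : Z.IsLE b)
    (hZ : ∀ q : ℤ, PowKills I ((homologyFunctor (ModuleCat.{u} A) q).obj Z)) : VProp I Z := by
  exact Groth.Agent.H35.bounded_induction_deg' (VProp I) (fun _ => SPow I)
    (fun X hX => vprop_of_isZero I X hX)
    (fun T hT h₁ h₃ => vprop_of_triangle I T hT h₁ h₃)
    (fun M n h => vprop_single I M n h)
    (fun n M hM => powKills_of_isZero I hM) Z a b hGE hLE hZ

end Groth.Agent.H35.LTI
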