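import Mathlib
import Groth.Prelude.Def_DTen

/-!
# Linearity of the tensor product of complexes in the first variable, and the maps
`I[0] ⊗ F ⟶ F`, `F ⟶ I[0] ⊗ F` (helper35, for S13578)
-/

set_option autoImplicit false
universe u

open CategoryTheory CategoryTheory.Limits MonoidalCategory

namespace Groth.Agent.H35.LTI

variable {A : Type u} [CommRing A]

/-- `M ↦ M[0]` at the level of complexes -/
noncomputable abbrev S0 (A : Type u) [CommRing A] : ModuleCat.{u} A ⥤ DRing.Cx A :=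
  HomologicalComplex.single (ModuleCat.{u} A) (ComplexShape.up ℤ) 0

lemma S0_map_smul (c : A) {X Y : ModuleCat.{u} A} (g : X ⟶ Y) :
    (S0 A).map (c • g) = c • (S0 A).map g := by
  apply HomologicalComplex.hom_ext
  intro i
  by_cases hi : i = 0
  · subst hi
    rw [HomologicalComplex.smul_f_apply]
    simp only [HomologicalComplex.single_map_f_self, Linear.smul_comp, Linear.comp_smul]
  · apply (HomologicalComplex.isZero_single_obj_X (ComplexShape.up ℤ) 0 X i hi).eq_of_src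

lemma smul_whiskerRight_cx (c : A) {K K' : DRing.Cx A} (g : K ⟶ K') (F : DRing.Cx A) :
    (c • g) ▷ F = c • (g ▷ F) := by
  change HomologicalComplex.mapBifunctorMap (c • g) (𝟙 F) _ _ =
    c • HomologicalComplex.mapBifunctorMap g (𝟙 F) _ _
  refine HomologicalComplex.hom_ext _ _ (fun n => HomologicalComplex.mapBifunctor.hom_ext
    (fun p q h => ?_))
  rw [HomologicalComplex.smul_f_apply, Linear.comp_smul,
    HomologicalComplex.ι_mapBifunctorMap, HomologicalComplex.ι_mapBifunctorMap]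
  simp only [curriedTensor_obj_obj, curriedTensor_map_app, curriedTensor_obj_map,
    HomologicalComplex.smul_f_apply, MonoidalLinear.smul_whiskerRight, Linear.smul_comp]

section Maps

variable (I : Ideal A) (F : DRing.Cx A)

/-- the inclusion `I ⟶ A` as a map of complexes `I[0] ⟶ 𝟙_` -/
noncomputable def inclCx : (S0 A).obj (ModuleCat.of A ↥I) ⟶ 𝟙_ (DRing.Cx A) :=
  (S0 A).map (ModuleCat.ofHom I.subtype)

/-- multiplication by `f ∈ I` as a map `A ⟶ I` -/
noncomputable def muMod (f : A) (hf : f ∈ I) : ModuleCat.of A A ⟶ ModuleCat.of A ↥I :=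
  ModuleCat.ofHom (LinearMap.toSpanSingleton A ↥I ⟨f, hf⟩)

/-- multiplication by `f ∈ I` as a map of complexes `𝟙_ ⟶ I[0]` -/
noncomputable def muCx (f : A) (hf : f ∈ I) : 𝟙_ (DRing.Cx A) ⟶ (S0 A).obj (ModuleCat.of A ↥I) :=
  (S0 A).map (muMod I f hf)

lemma muMod_comp_incl (f : A) (hf : f ∈ I) :
    muMod I f hf ≫ ModuleCat.ofHom I.subtype = f • 𝟙 (ModuleCat.of A A) := by
  ext
  simp [muMod]

lemma incl_comp_muMod (f : A) (hf : f ∈ I) :
    ModuleCat.ofHom I.subtype ≫ muMod I f hf = f • 𝟙 (ModuleCat.of A ↥I) := by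
  ext x
  simp [muMod, mul_comm]

lemma muCx_comp_inclCx (f : A) (hf : f ∈ I) :
    muCx I f hf ≫ inclCx I = f • 𝟙 (𝟙_ (DRing.Cx A)) := by
  have h := S0_map_smul f (𝟙 (ModuleCat.of A A))
  rw [CategoryTheory.Functor.map_id] at h
  exact (((S0 A).map_comp _ _).symm.trans (congrArg (S0 A).map (muMod_comp_incl I f hf))).trans h

lemma inclCx_comp_muCx (f : A) (hf : f ∈ I) :
    inclCx I ≫ muCx I f hf = f • 𝟙 ((S0 A).obj (ModuleCat.of A ↥I)) := by
  have h := S0_map_smul f (𝟙 (ModuleCat.of A ↥I))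
  rw [CategoryTheory.Functor.map_id] at h
  exact (((S0 A).map_comp _ _).symm.trans (congrArg (S0 A).map (incl_comp_muMod I f hf))).trans h

/-- the canonical map `I[0] ⊗ F ⟶ F` -/
noncomputable def jMap : (S0 A).obj (ModuleCat.of A ↥I) ⊗ F ⟶ F :=
  (inclCx I ▷ F) ≫ (λ_ F).hom

/-- `y ↦ f ⊗ y`, `F ⟶ I[0] ⊗ F` -/
noncomputable def mMap (f : A) (hf : f ∈ I) : F ⟶ (S0 A).obj (ModuleCat.of A ↥I) ⊗ F :=
  (λ_ F).inv ≫ (muCx I f hf ▷ F)

lemma mMap_comp_jMap (f : A) (hf : f ∈ I) : mMap I F f hf ≫ jMap I F = f • 𝟙 F := by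
  unfold mMap jMap
  rw [Category.assoc, ← Category.assoc (muCx I f hf ▷ F), ← comp_whiskerRight,
    muCx_comp_inclCx, smul_whiskerRight_cx, id_whiskerRight, Linear.smul_comp, Linear.comp_smul,
    Category.id_comp, Iso.inv_hom_id]

lemma jMap_comp_mMap (f : A) (hf : f ∈ I) :
    jMap I F ≫ mMap I F f hf = f • 𝟙 ((S0 A).obj (ModuleCat.of A ↥I) ⊗ F) := by
  unfold mMap jMap
  rw [Category.assoc, ← Category.assoc (λ_ F).hom, Iso.hom_inv_id, Category.id_comp,
    ← comp_whiskerRight, inclCx_comp_muCx, smul_whiskerRight_cx, id_whiskerRight]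

end Maps

end Groth.Agent.H35.LTI
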