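import Mathlib
import Groth.Agent.H35.KosCrit

/-!
# Extension of maps over the Koszul tower; bounds for `kosCx` (helper35, for S13578)
-/

set_option autoImplicit false
universe w v u

open CategoryTheory CategoryTheory.Limits CategoryTheory.Pretriangulated

namespace Groth.Agent.H35.LTI

open Groth.Agent.H9.DC Groth.Agent.H35.KosAbs Groth.Agent.H35.KosCrit

section Abstract

variable {A : Type w} [CommRing A]
  {T : Type u} [Category.{v} T] [Preadditive T] [Linear A T] [HasZeroObject T] [HasShift T ℤ]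
  [∀ n : ℤ, (shiftFunctor T n).Additive] [∀ n : ℤ, (shiftFunctor T n).Linear A]
  [Pretriangulated T]

/-- if `j : X ⟶ Y` is invertible up to `f` (on both sides) then `f ^ 2` kills its cone -/
lemma sq_smul_cone_eq_zero (f : A) {X Y Z : T} (j : X ⟶ Y) (p : Y ⟶ Z) (δ : Z ⟶ X⟦(1 : ℤ)⟧)
    (hT : Triangle.mk j p δ ∈ distTriang T) (m : Y ⟶ X) (h1 : m ≫ j = f • 𝟙 Y)
    (h2 : j ≫ m = f • 𝟙 X) : (f ^ 2) • 𝟙 Z = 0 := by
  have z12 : j ≫ p = 0 := comp_distTriang_mor_zero₁₂ _ hT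
  have z31 : δ ≫ j⟦(1 : ℤ)⟧' = 0 := comp_distTriang_mor_zero₃₁ _ hT
  have hp : p ≫ (f • 𝟙 Z) = 0 := by
    rw [← smul_comp_eq, smul_comp_eq', ← h1, Category.assoc, z12, comp_zero]
  obtain ⟨(ψ : X⟦(1 : ℤ)⟧ ⟶ Z), (hψ : f • 𝟙 Z = δ ≫ ψ)⟩ :=
    Triangle.yoneda_exact₃ _ hT (f • 𝟙 Z) hp
  have h2' : (f ^ 2) • 𝟙 Z = (f • 𝟙 Z) ≫ (f • 𝟙 Z) := by
    rw [Linear.comp_smul, Category.comp_id, smul_smul, pow_two]
  have h3 : ψ ≫ (f • 𝟙 Z) = (f • 𝟙 X)⟦(1 : ℤ)⟧' ≫ ψ := by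
    rw [← smul_comp_eq, shift_smul_id, ← smul_comp_eq']
  rw [h2']
  nth_rw 1 [hψ]
  rw [Category.assoc, h3, ← h2, Functor.map_comp, Category.assoc, ← Category.assoc δ, z31,
    zero_comp]

end Abstract

section Concrete

open DerivedCategory

attribute [local instance] HasDerivedCategory.standard

variable {A : Type u} [CommRing A]

/-- the canonical map `Y ⟶ kosCx fs Y` -/
noncomputable def toKos : ∀ (fs : List A) (Y : DRing.Cx A), Y ⟶ kosCx fs Y
  | [], Y => 𝟙 Y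
  | f :: fs, Y => CochainComplex.mappingCone.inr (f • 𝟙 Y) ≫ toKos fs (coneF f Y)

lemma triangle_coneF (f : A) (Y : DRing.Cx A) :
    ∃ h : Q.obj (coneF f Y) ⟶ (Q.obj Y)⟦(1 : ℤ)⟧,
      Triangle.mk (f • 𝟙 (Q.obj Y)) (Q.map (CochainComplex.mappingCone.inr (f • 𝟙 Y))) h ∈
        distTriang (Dual.D A) := by
  have hT' : Q.mapTriangle.obj (CochainComplex.mappingCone.triangle (f • 𝟙 Y)) ∈
      distTriang (Dual.D A) := by
    rw [mem_distTriang_iff]
    exact ⟨_, _, _, ⟨Iso.refl _⟩⟩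
  have hmap : Q.map (f • 𝟙 Y) = f • 𝟙 (Q.obj Y) := by
    rw [Functor.map_smul, CategoryTheory.Functor.map_id]
  refine ⟨(Q.mapTriangle.obj (CochainComplex.mappingCone.triangle (f • 𝟙 Y))).mor₃, ?_⟩
  rw [← hmap]
  exact hT'

/-- maps to an object killed by all elements of `fs` extend over `Y ⟶ kosCx fs Y` -/
lemma exists_extension_toKos (Z : Dual.D A) : ∀ (fs : List A) (_ : ∀ g ∈ fs, g • 𝟙 Z = 0)
    (Y : DRing.Cx A) (β : Q.obj Y ⟶ Z),
    ∃ β' : Q.obj (kosCx fs Y) ⟶ Z, β = Q.map (toKos fs Y) ≫ β' := by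
  intro fs
  induction fs with
  | nil =>
    intro _ Y β
    refine ⟨β, ?_⟩
    show β = Q.map (𝟙 Y) ≫ β
    rw [CategoryTheory.Functor.map_id, Category.id_comp]
  | cons f fs ih =>
    intro hfs Y β
    obtain ⟨h, hT⟩ := triangle_coneF f Y
    have h0 : (f • 𝟙 (Q.obj Y)) ≫ β = 0 := by
      rw [← smul_comp_eq', smul_comp_eq, hfs f List.mem_cons_self, comp_zero]
    obtain ⟨β₁, (hβ₁ : β = Q.map (CochainComplex.mappingCone.inr (f • 𝟙 Y)) ≫ β₁)⟩ :=
      Triangle.yoneda_exact₂ _ hT β h0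
    obtain ⟨β', hβ'⟩ := ih (fun g hg => hfs g (List.mem_cons_of_mem _ hg)) (coneF f Y) β₁
    refine ⟨β', ?_⟩
    have e : Q.map (toKos (f :: fs) Y) = Q.map (CochainComplex.mappingCone.inr (f • 𝟙 Y)) ≫
        Q.map (toKos fs (coneF f Y)) := Q.map_comp _ _
    exact (hβ₁.trans (congrArg (fun t => Q.map (CochainComplex.mappingCone.inr (f • 𝟙 Y)) ≫ t)
      hβ')).trans ((Category.assoc _ _ _).symm.trans (congrArg (fun t => t ≫ β') e.symm))

lemma isLE_coneF (f : A) (Y : DRing.Cx A) (b : ℤ) (hY : (Q.obj Y).IsLE b) :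
    (Q.obj (coneF f Y)).IsLE b := by
  obtain ⟨h, hT⟩ := triangle_coneF f Y
  have h3 : ((Q.obj Y)⟦(1 : ℤ)⟧).IsLE b :=
    have := TStructure.t.isLE_shift (Q.obj Y) b 1 (b - 1) (by omega)
    TStructure.t.isLE_of_le _ (b - 1) b (by omega)
  exact TStructure.t.isLE₂ _ (rot_of_distTriang _ hT) b hY h3

lemma isGE_coneF (f : A) (Y : DRing.Cx A) (a : ℤ) (hY : (Q.obj Y).IsGE a) :
    (Q.obj (coneF f Y)).IsGE (a - 1) := by
  obtain ⟨h, hT⟩ := triangle_coneF f Y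
  have h3 : ((Q.obj Y)⟦(1 : ℤ)⟧).IsGE (a - 1) :=
    TStructure.t.isGE_shift (Q.obj Y) a 1 (a - 1) (by omega)
  have h1 : (Q.obj Y).IsGE (a - 1) := TStructure.t.isGE_of_ge _ (a - 1) a (by omega)
  exact TStructure.t.isGE₂ _ (rot_of_distTriang _ hT) (a - 1) h1 h3

lemma isLE_kosCx (fs : List A) : ∀ (Y : DRing.Cx A) (b : ℤ), (Q.obj Y).IsLE b →
    (Q.obj (kosCx fs Y)).IsLE b := by
  induction fs with
  | nil => intro Y b h; exact h
  | cons f fs ih => intro Y b h; exact ih _ b (isLE_coneF f Y b h)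

lemma isGE_kosCx (fs : List A) : ∀ (Y : DRing.Cx A) (a : ℤ), (Q.obj Y).IsGE a →
    (Q.obj (kosCx fs Y)).IsGE (a - fs.length) := by
  induction fs with
  | nil =>
    intro Y a h
    simpa using h
  | cons f fs ih =>
    intro Y a h
    have h1 := ih _ (a - 1) (isGE_coneF f Y a h)
    have e : a - 1 - (fs.length : ℤ) = a - ((f :: fs).length : ℤ) := by
      simp only [List.length_cons]
      push_cast
      ring
    rw [← e]
    exact h1

end Concrete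

end Groth.Agent.H35.LTI
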