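import Mathlib
import Groth.Agent.H35.LTI.CxLin
import Groth.Agent.H35.LTI.KosExt
import Groth.Agent.H35.LTI.ARVanish
import Groth.Agent.H35.KFBounded
import Groth.Agent.H18.TorBalance
import Groth.Agent.H36.DerivedLinear

/-!
# `I^n M ⟶ M` factors through `I ⊗^L M ⟶ M` (helper35, S13578)
-/

set_option autoImplicit false
set_option linter.style.haveILetI false
universe u

open CategoryTheory CategoryTheory.Limits CategoryTheory.Pretriangulated MonoidalCategory

namespace Groth.Agent.H35.LTI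

open DerivedCategory Groth.Agent.H35.ExtAR Groth.Agent.H35.KosAbs Groth.Agent.H35.KosCrit

attribute [local instance] HasDerivedCategory.standard

variable {A : Type u} [CommRing A]

/-- the annihilator ideal of an object of `D(A)` -/
def annIdeal (W : Dual.D A) : Ideal A where
  carrier := {x | x • 𝟙 W = 0}
  add_mem' := by
    intro x y hx hy
    have hx' : x • 𝟙 W = 0 := hx
    have hy' : y • 𝟙 W = 0 := hy
    show (x + y) • 𝟙 W = 0
    rw [add_smul, hx', hy', add_zero]
  zero_mem' := by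
    show (0 : A) • 𝟙 W = 0
    rw [zero_smul]
  smul_mem' := by
    intro c x hx
    have hx' : x • 𝟙 W = 0 := hx
    show (c • x) • 𝟙 W = 0
    rw [smul_eq_mul, mul_smul, hx', smul_zero]

lemma mem_annIdeal (W : Dual.D A) (x : A) : x ∈ annIdeal W ↔ x • 𝟙 W = 0 := Iff.rfl

/-- if powers of generators of `I` kill `W` then a power of `I` kills `W` -/
lemma powKills_of_nil (I : Ideal A) (s : Finset A) (hs : Ideal.span (s : Set A) = I)
    (W : Dual.D A) (hW : ∀ f ∈ s, Nil (f ^ 2) W) : PowKills I W := by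
  have hle : I ≤ (annIdeal W).radical := by
    rw [← hs, Ideal.span_le]
    intro f hf
    obtain ⟨k, hk⟩ := hW f hf
    refine ⟨2 * k, ?_⟩
    rw [pow_mul]
    exact hk
  obtain ⟨m, hm⟩ := Ideal.exists_pow_le_of_le_radical_of_fg hle ⟨s, hs⟩
  exact ⟨m, fun x hx => hm hx⟩

lemma powKills_homology (I : Ideal A) (W : Dual.D A) (hW : PowKills I W) (q : ℤ) :
    PowKills I ((homologyFunctor (ModuleCat.{u} A) q).obj W) := by
  obtain ⟨m, hm⟩ := hW
  refine ⟨m, fun x hx => ?_⟩
  rw [← Groth.Agent.H36.derivedCategory_homologyFunctor_map_smul_id A (ModuleCat.{u} A) q x W,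
    hm x hx, Functor.map_zero]

lemma vanish_mono (I : Ideal A) (N : Type u) [AddCommGroup N] [Module A N] {Z : Dual.D A}
    (ψ : (sg A).obj (ModuleCat.of A N) ⟶ Z) (n n' : ℕ) (hn : n ≤ n')
    (h : (sg A).map (ModuleCat.ofHom (powTop I n N).subtype) ≫ ψ = 0) :
    (sg A).map (ModuleCat.ofHom (powTop I n' N).subtype) ≫ ψ = 0 := by
  have hle : powTop I n' N ≤ powTop I n N :=
    Submodule.smul_mono_left (Ideal.pow_le_pow_right hn)
  have e : ModuleCat.ofHom (powTop I n' N).subtype =
      ModuleCat.ofHom (Submodule.inclusion hle) ≫ ModuleCat.ofHom (powTop I n N).subtype := by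
    rw [← ModuleCat.ofHom_comp]
    rfl
  rw [e, Functor.map_comp, Category.assoc, h, comp_zero]

/-- the complex level statement -/
theorem exists_factor [IsNoetherianRing A] (I : Ideal A) (M : Type u) [AddCommGroup M] [Module A M]
    [Module.Finite A M] :
    ∃ (F : DRing.Cx A) (_ : DRing.IsKFlat A F) (π' : F ⟶ (S0 A).obj (ModuleCat.of A M))
      (_ : IsIso (Q.map π')) (n : ℕ) (_ : 0 < n)
      (g' : Q.obj ((S0 A).obj (ModuleCat.of A ↥(powTop I n M))) ⟶
        Q.obj ((S0 A).obj (ModuleCat.of A ↥I) ⊗ F)),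
      g' ≫ Q.map (jMap I F) ≫ Q.map π' =
        Q.map ((S0 A).map (ModuleCat.ofHom (powTop I n M).subtype)) := by
  let P := projectiveResolution (ModuleCat.of A M)
  let F : DRing.Cx A := P.cochainComplex
  have hF : ∀ i : ℤ, Module.Flat A (F.X i) := fun i => Groth.Agent.H18.flat_of_projective _
  have hKF : DRing.IsKFlat A F := Groth.Agent.H35.KF.isKFlat_of_isStrictlyLE F 0 hF
  have hiso : IsIso (Q.map P.π') := by
    rw [DerivedCategory.isIso_Q_map_iff_quasiIso (φ := P.π')]
    infer_instance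
  let e : Q.obj F ≅ (sg A).obj (ModuleCat.of A M) := @asIso _ _ _ _ (Q.map P.π') hiso
  -- generators
  obtain ⟨s, hs⟩ : I.FG := IsNoetherian.noetherian I
  let fs' : List A := s.toList.map (fun f => f ^ 2)
  -- the cone
  let j := jMap I F
  have hT : Q.mapTriangle.obj (CochainComplex.mappingCone.triangle j) ∈
      distTriang (Dual.D A) := by
    rw [mem_distTriang_iff]
    exact ⟨_, _, _, ⟨Iso.refl _⟩⟩
  let Z : Dual.D A := Q.obj (CochainComplex.mappingCone j)
  let p : Q.obj F ⟶ Z := Q.map (CochainComplex.mappingCone.inr j)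
  have hZ : ∀ f ∈ I, (f ^ 2) • 𝟙 Z = 0 := by
    intro f hf
    refine sq_smul_cone_eq_zero f (Q.map j) p
      (Q.mapTriangle.obj (CochainComplex.mappingCone.triangle j)).mor₃ hT
      (Q.map (mMap I F f hf)) ?_ ?_
    · rw [← Functor.map_comp, mMap_comp_jMap, Functor.map_smul, CategoryTheory.Functor.map_id]
    · rw [← Functor.map_comp, jMap_comp_mMap, Functor.map_smul, CategoryTheory.Functor.map_id]
  have hfs' : ∀ g ∈ fs', g • 𝟙 Z = 0 := by
    intro g hg
    obtain ⟨f, hf, rfl⟩ := List.mem_map.1 hg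
    apply hZ
    rw [← hs]
    exact Ideal.subset_span (Finset.mem_toList.1 hf)
  obtain ⟨β', hβ'⟩ := exists_extension_toKos Z fs' hfs' F p
  -- the bounded object
  let W : Dual.D A := Q.obj (kosCx fs' F)
  have hLE0 : (Q.obj F).IsLE 0 := TStructure.t.isLE_of_iso e.symm 0
  have hGE0 : (Q.obj F).IsGE 0 := TStructure.t.isGE_of_iso e.symm 0
  have hWLE : W.IsLE 0 := isLE_kosCx fs' F 0 hLE0
  have hWGE : W.IsGE (0 - fs'.length) := isGE_kosCx fs' F 0 hGE0
  have hWnil : PowKills I W := by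
    apply powKills_of_nil I s hs
    intro f hf
    apply nil_kosCx fs' F
    exact List.mem_map.2 ⟨f, Finset.mem_toList.2 hf, rfl⟩
  have hV : VProp I W := vprop_of_bounded I W _ 0 hWGE hWLE
    (fun q => powKills_homology I W hWnil q)
  obtain ⟨n, hn⟩ := hV M (e.inv ≫ Q.map (toKos fs' F))
  have hn1 := vanish_mono I M _ n (n + 1) (Nat.le_succ n) hn
  -- lift through the cone triangle
  have h0 : ((sg A).map (ModuleCat.ofHom (powTop I (n + 1) M).subtype) ≫ e.inv) ≫ p = 0 := by
    rw [hβ', Category.assoc, ← Category.assoc e.inv, ← Category.assoc, hn1, zero_comp]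
  obtain ⟨g', hg'⟩ := Triangle.coyoneda_exact₂ _ hT _ h0
  refine ⟨F, hKF, P.π', hiso, n + 1, Nat.succ_pos n, g', ?_⟩
  have hg'' : (sg A).map (ModuleCat.ofHom (powTop I (n + 1) M).subtype) ≫ e.inv =
      g' ≫ Q.map j := hg'
  have h1 : e.inv ≫ Q.map P.π' = 𝟙 _ := e.inv_hom_id
  have h2 : (g' ≫ Q.map (jMap I F)) ≫ Q.map P.π' =
      ((sg A).map (ModuleCat.ofHom (powTop I (n + 1) M).subtype) ≫ e.inv) ≫ Q.map P.π' :=
    congrArg (fun t => t ≫ Q.map P.π') hg''.symm
  exact ((Category.assoc _ _ _).symm.trans h2).trans ((Category.assoc _ _ _).trans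
    ((congrArg (fun t => (sg A).map (ModuleCat.ofHom (powTop I (n + 1) M).subtype) ≫ t) h1).trans
      (Category.comp_id _)))

end Groth.Agent.H35.LTI
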