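import Mathlib
import Groth.Agent.H35.LTI.Main

/-!
# `I^n M ⟶ M` factors through `I ⊗^L M ⟶ M`: the statement in terms of `DTen.LTen₂`
(helper35, S13578)
-/

set_option autoImplicit false
universe u

open CategoryTheory CategoryTheory.Limits MonoidalCategory

namespace Groth.Agent.H35.LTI

open DerivedCategory DTen Groth.Agent.H35.ExtAR

attribute [local instance] HasDerivedCategory.standard

variable {A : Type u} [CommRing A]

/-- the composite `QK ⊗^L QF ⟶ 𝟙 ⊗^L QL ⟶ QL` in terms of the counit -/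
lemma LTen_map_unitL [DTen.HasLTen A] {K F L : DRing.Cx A} (a : K ⟶ 𝟙_ (DRing.Cx A)) (b : F ⟶ L) :
    (DTen.LTen₂ A).map (Prod.mkHom (𝟙 (Q.obj K)) (Q.map b)) ≫
      (DTen.LTen₂ A).map (Prod.mkHom (Q.map a) (𝟙 (Q.obj L))) ≫
        (DTen.unitL A).app (Q.obj L) =
      (DTen.ε A).app (K, F) ≫ Q.map ((a ▷ F) ≫ (λ_ F).hom ≫ b) := by
  rw [DTen.unitL_app]
  have e := (DTen.ε A).naturality (Prod.mkHom a b : (K, F) ⟶ (𝟙_ (DRing.Cx A), L))
  have h1 : (DTen.LTen₂ A).map (Prod.mkHom (𝟙 (Q.obj K)) (Q.map b)) ≫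
      (DTen.LTen₂ A).map (Prod.mkHom (Q.map a) (𝟙 (Q.obj L))) =
      (DTen.QQ A ⋙ DTen.LTen₂ A).map (Prod.mkHom a b : (K, F) ⟶ (𝟙_ (DRing.Cx A), L)) := by
    rw [← Functor.map_comp]
    dsimp
    congr 1
  have h2 : (DTen.tensor₂ A).map (Prod.mkHom a b : (K, F) ⟶ (𝟙_ (DRing.Cx A), L)) ≫
      Q.map (λ_ L).hom = Q.map ((a ▷ F) ≫ (λ_ F).hom ≫ b) := by
    dsimp
    rw [← Functor.map_comp, Category.assoc, leftUnitor_naturality]
  rw [← Category.assoc, h1, ← Category.assoc, e, Category.assoc, h2]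

theorem main (A : Type u) [CommRing A] [IsNoetherianRing A]
    [DTen.HasLTen A] [DTen.KFlatComputes A] (I : Ideal A) (M : Type u) [AddCommGroup M] [Module A M]
    [Module.Finite A M] :
    ∃ (n : ℕ) (_ : 0 < n)
      (g : DerivedCategory.Q.obj ((HomologicalComplex.single (ModuleCat.{u} A) (ComplexShape.up ℤ) 0).obj
              (ModuleCat.of A ↥(I ^ n • (⊤ : Submodule A M)))) ⟶
            (DTen.LTen₂ A).obj (DerivedCategory.Q.obj ((HomologicalComplex.single (ModuleCat.{u} A) (ComplexShape.up ℤ) 0).obj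
              (ModuleCat.of A ↥I)),
              DerivedCategory.Q.obj ((HomologicalComplex.single (ModuleCat.{u} A) (ComplexShape.up ℤ) 0).obj
              (ModuleCat.of A M)))),
      g ≫ (DTen.LTen₂ A).map (Prod.mkHom
              (DerivedCategory.Q.map ((HomologicalComplex.single (ModuleCat.{u} A) (ComplexShape.up ℤ) 0).map
                (ModuleCat.ofHom I.subtype)))
              (𝟙 _)) ≫
          (DTen.unitL A).app (DerivedCategory.Q.obj ((HomologicalComplex.single (ModuleCat.{u} A) (ComplexShape.up ℤ) 0).obj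
              (ModuleCat.of A M))) =
        DerivedCategory.Q.map ((HomologicalComplex.single (ModuleCat.{u} A) (ComplexShape.up ℤ) 0).map
          (ModuleCat.ofHom (I ^ n • (⊤ : Submodule A M)).subtype)) := by
  obtain ⟨F, hKF, π', hiso, n, hn, g', hg'⟩ := exists_factor I M
  have : IsIso ((DTen.ε A).app ((S0 A).obj (ModuleCat.of A ↥I), F)) :=
    DTen.KFlatComputes.isIso_counit _ _ (Or.inr hKF)
  refine ⟨n, hn, g' ≫ inv ((DTen.ε A).app ((S0 A).obj (ModuleCat.of A ↥I), F)) ≫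
    (DTen.LTen₂ A).map (Prod.mkHom (𝟙 (Q.obj ((S0 A).obj (ModuleCat.of A ↥I)))) (Q.map π')), ?_⟩
  have key := LTen_map_unitL (inclCx I) π'
  have hj : (inclCx I ▷ F) ≫ (λ_ F).hom ≫ π' = jMap I F ≫ π' := by
    unfold jMap
    rw [Category.assoc]
  rw [hj, Functor.map_comp] at key
  rw [Category.assoc, Category.assoc]
  erw [key]
  rw [IsIso.inv_hom_id_assoc]
  exact hg'

end Groth.Agent.H35.LTI
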